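import Mathlib
import Cfsg.Agent.Lib.Helper59.OHyp.BlkDefs

/-!
# OHYP (S5992), BLK cut, package [ANN]: an invariant subspace is killed by a nonzero polynomial
of degree at most its dimension (the characteristic polynomial of the restriction)
-/

set_option autoImplicit false

namespace Cfsg.Agent.Lib.Helper46.OHyp

open Cfsg.Agent.Lib.Helper23.OHyp Cfsg.Agent.Lib.Helper59.OHyp Polynomial

universe u

/-- `(aeval x g) *ᵥ v` is `aeval (toLin' x) g` applied to `v` -/
theorem aeval_mulVec_eq {F : Type u} [Field F] {ι : Type} [Fintype ι] [DecidableEq ι]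
    (x : Matrix ι ι F) (g : F[X]) (v : ι → F) :
    (aeval x g).mulVec v = aeval (Matrix.toLin' x) g v := by
  have h1 : aeval (Matrix.toLinAlgEquiv' x) g = Matrix.toLinAlgEquiv' (aeval x g) :=
    aeval_algHom_apply Matrix.toLinAlgEquiv' x g
  have h2 : aeval (Matrix.toLin' x) g = Matrix.toLinAlgEquiv' (aeval x g) := h1
  rw [h2]
  rfl

/-- polynomials in the restriction of an endomorphism to an invariant subspace -/
theorem aeval_restrict_coe {F : Type u} [Field F] {V : Type*} [AddCommGroup V] [Module F V]
    (T : Module.End F V) (U : Submodule F V) (hU : ∀ v ∈ U, T v ∈ U) (p : F[X]) (u : U) :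
    ((aeval (T.restrict hU) p u : U) : V) = aeval T p (u : V) := by
  have hpow : ∀ (n : ℕ) (u : U), ((((T.restrict hU) ^ n) u : U) : V) = (T ^ n) (u : V) := by
    intro n
    induction n with
    | zero => intro u; rfl
    | succ n ih =>
      intro u
      rw [pow_succ, pow_succ, Module.End.mul_apply, Module.End.mul_apply, ih]
      rfl
  rw [aeval_eq_sum_range, aeval_eq_sum_range, LinearMap.sum_apply, LinearMap.sum_apply,
    Submodule.coe_sum]
  refine Finset.sum_congr rfl fun i _ => ?_
  rw [LinearMap.smul_apply, LinearMap.smul_apply, Submodule.coe_smul, hpow]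

/-- [ANN] -/
theorem pkgAnn : PkgAnn.{u} := by
  intro F _ ι _ _ x U hU
  have hU' : ∀ v ∈ U, Matrix.toLin' x v ∈ U := fun v hv => hU (Submodule.mem_map_of_mem hv)
  refine ⟨((Matrix.toLin' x).restrict hU').charpoly,
    ((Matrix.toLin' x).restrict hU').charpoly_monic.ne_zero,
    (((Matrix.toLin' x).restrict hU').charpoly_natDegree).le, ?_⟩
  intro v hv
  rw [aeval_mulVec_eq]
  have h := aeval_restrict_coe (Matrix.toLin' x) U hU'
    ((Matrix.toLin' x).restrict hU').charpoly ⟨v, hv⟩
  rw [LinearMap.aeval_self_charpoly] at h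
  exact h.symm

end Cfsg.Agent.Lib.Helper46.OHyp
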