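import Mathlib
import Cfsg.Agent.Lib.Helper59.OHyp.BlkDefs

/-!
# OHYP (S5992), BLK cut, package [CYC]: cyclic subspaces
-/

set_option autoImplicit false

namespace Cfsg.Agent.Lib.Helper46.OHyp

open Cfsg.Agent.Lib.Helper23.OHyp Cfsg.Agent.Lib.Helper59.OHyp Polynomial

universe u

/-- [CYC] -/
theorem pkgCyc : PkgCyc.{u} := by
  intro F _ ι _ _ x w
  refine ⟨?_, ?_, ?_, ?_⟩
  · unfold Cfsg.Agent.Lib.Helper23.OHyp.Inv cycSp
    rw [Submodule.map_span, Submodule.span_le]
    rintro _ ⟨_, ⟨k, rfl⟩, rfl⟩
    apply Submodule.subset_span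
    refine ⟨k + 1, ?_⟩
    simp only [Matrix.toLin'_apply, Matrix.mulVec_mulVec, pow_succ']
  · exact Submodule.subset_span ⟨0, by simp⟩
  · intro W hW hw
    unfold cycSp
    rw [Submodule.span_le]
    rintro _ ⟨k, rfl⟩
    rw [SetLike.mem_coe]
    induction k with
    | zero => simpa using hw
    | succ k ih =>
      have h1 : (x ^ (k + 1)).mulVec w = Matrix.toLin' x ((x ^ k).mulVec w) := by
        rw [Matrix.toLin'_apply, Matrix.mulVec_mulVec, pow_succ']
      have ih' : (x ^ k).mulVec w ∈ W := ih
      show (x ^ (k + 1)).mulVec w ∈ W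
      rw [h1]
      exact hW (Submodule.mem_map_of_mem ih')
  · intro g hg hgw
    classical
    have hc : g.leadingCoeff⁻¹ ≠ 0 := inv_ne_zero (leadingCoeff_ne_zero.2 hg)
    have hmon : (C g.leadingCoeff⁻¹ * g).Monic := by
      rw [mul_comm]
      exact monic_mul_leadingCoeff_inv hg
    have hdeg : (C g.leadingCoeff⁻¹ * g).natDegree = g.natDegree := natDegree_C_mul hc
    have hg'w : (aeval x (C g.leadingCoeff⁻¹ * g)).mulVec w = 0 := by
      rw [← smul_eq_C_mul, map_smul, Matrix.smul_mulVec, hgw, smul_zero]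
    have hS : ∀ p : F[X], p.degree < (g.natDegree : WithBot ℕ) → (aeval x p).mulVec w ∈
        Submodule.span F (((Finset.range g.natDegree).image (fun l : ℕ => (x ^ l).mulVec w) :
          Finset (ι → F)) : Set (ι → F)) := by
      intro p hp
      rw [aeval_eq_sum_range, Matrix.sum_mulVec]
      refine Submodule.sum_mem _ fun i _ => ?_
      rw [Matrix.smul_mulVec]
      by_cases hi : i < g.natDegree
      · refine Submodule.smul_mem _ _ (Submodule.subset_span ?_)
        rw [Finset.mem_coe, Finset.mem_image]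
        exact ⟨i, Finset.mem_range.2 hi, rfl⟩
      · have h0 : p.coeff i = 0 :=
          coeff_eq_zero_of_degree_lt (lt_of_lt_of_le hp (by exact_mod_cast not_lt.1 hi))
        rw [h0, zero_smul]
        exact Submodule.zero_mem _
    have hle : cycSp x w ≤ Submodule.span F (((Finset.range g.natDegree).image
        (fun l : ℕ => (x ^ l).mulVec w) : Finset (ι → F)) : Set (ι → F)) := by
      unfold cycSp
      rw [Submodule.span_le]
      rintro _ ⟨k, rfl⟩
      have h1 := modByMonic_add_div (X ^ k : F[X]) (C g.leadingCoeff⁻¹ * g)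
      rw [mul_comm (C g.leadingCoeff⁻¹ * g) (X ^ k /ₘ (C g.leadingCoeff⁻¹ * g))] at h1
      have h2 : x ^ k = aeval x (X ^ k %ₘ (C g.leadingCoeff⁻¹ * g)) +
          aeval x (X ^ k /ₘ (C g.leadingCoeff⁻¹ * g)) * aeval x (C g.leadingCoeff⁻¹ * g) := by
        have h3 := congrArg (aeval x) h1
        rw [map_add, map_mul, map_pow, aeval_X] at h3
        exact h3.symm
      have h4 : (x ^ k).mulVec w = (aeval x (X ^ k %ₘ (C g.leadingCoeff⁻¹ * g))).mulVec w := by
        conv_lhs => rw [h2]
        rw [Matrix.add_mulVec, ← Matrix.mulVec_mulVec, hg'w, Matrix.mulVec_zero, add_zero]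
      rw [SetLike.mem_coe]
      show (x ^ k).mulVec w ∈ _
      rw [h4]
      apply hS
      have h5 := degree_modByMonic_lt (X ^ k : F[X]) hmon
      rw [degree_eq_natDegree hmon.ne_zero, hdeg] at h5
      exact h5
    calc Module.finrank F (cycSp x w)
        ≤ Module.finrank F (Submodule.span F (((Finset.range g.natDegree).image
          (fun l : ℕ => (x ^ l).mulVec w) : Finset (ι → F)) : Set (ι → F))) :=
          Submodule.finrank_mono hle
      _ ≤ ((Finset.range g.natDegree).image (fun l : ℕ => (x ^ l).mulVec w)).card :=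
          finrank_span_finset_le_card _
      _ ≤ (Finset.range g.natDegree).card := Finset.card_image_le
      _ = g.natDegree := Finset.card_range _

end Cfsg.Agent.Lib.Helper46.OHyp
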